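import Groth.Prelude.Def_HMNum
import Groth.Agent.Lib.AlgGrpBasic19.Basic
import Mathlib.AlgebraicGeometry.Morphisms.SchemeTheoreticallyDominant
import Mathlib.LinearAlgebra.TensorProduct.Basic
import Mathlib.RingTheory.TensorProduct.Maps

/-!
# The multiplicative group is schematically dense in the affine line; uniqueness of limits
-/

universe u

set_option backward.isDefEq.respectTransparency.types false

open CategoryTheory CategoryTheory.Limits MonoidalCategory CartesianMonoidalCategory MonObj AlgebraicGeometry Opposite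
open scoped TensorProduct

namespace Groth.Agent.HMNum19

/-- `Spec` of an injective ring map is scheme-theoretically dominant. -/
theorem isSchemeTheoreticallyDominant_specMap {A B : CommRingCat.{u}} (f : A ⟶ B)
    (hf : Function.Injective f.hom) : IsSchemeTheoreticallyDominant (Spec.map f) := by
  constructor
  refine Scheme.IdealSheafData.ext_of_isAffine ?_
  rw [Scheme.Hom.ker_apply]
  simp only [Scheme.IdealSheafData.ideal_bot, Pi.bot_apply]
  rw [← RingHom.injective_iff_ker_eq_bot]
  have e : (Spec.map f).appTop = (Scheme.ΓSpecIso A).hom ≫ f ≫ (Scheme.ΓSpecIso B).inv := by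
    rw [← Category.assoc, Iso.eq_comp_inv]; exact Scheme.ΓSpecIso_naturality f
  show Function.Injective (Spec.map f).appTop.hom
  rw [e]
  exact ((Scheme.ΓSpecIso B).symm.commRingCatIsoToRingEquiv.injective.comp hf).comp
    (Scheme.ΓSpecIso A).commRingCatIsoToRingEquiv.injective

/-- Morphisms to a separated scheme that agree after a scheme-theoretically dominant morphism agree. -/
theorem ext_of_isSchemeTheoreticallyDominant {S : Scheme.{u}} {W Y X : Over S} [IsSeparated X.hom] (j : W ⟶ Y)
    [IsSchemeTheoreticallyDominant j.left] {f g : Y ⟶ X} (h : j ≫ f = j ≫ g) : f = g := by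
  have e : (equalizer.lift j h).left ≫ (equalizer.ι f g).left = j.left := by
    rw [← Over.comp_left, equalizer.lift_ι]
  have h0 : (equalizer.ι f g).left.ker = ⊥ := by
    refine eq_bot_iff.mpr ?_
    rw [← j.left.ker_eq_bot, ← e]
    exact Scheme.Hom.le_ker_comp _ _
  haveI : IsIso (equalizer.ι f g).left :=
    IsClosedImmersion.isIso_of_ker_eq (equalizer.ι f g).left (𝟙 _) _ (Category.comp_id _) (by rw [h0]; exact (Scheme.Hom.ker_eq_bot _).symm)
  ext1
  rw [← cancel_epi (equalizer.ι f g).left, ← Over.comp_left, ← Over.comp_left, equalizer.condition]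

/-- The map of monoid algebras of the inclusion of a submonoid stays injective after base change. -/
theorem injective_map_mapDomain (R k : Type u) [CommRing R] [CommRing k] [Algebra R k] {M N : Type} [AddCommMonoid M]
    [AddCommMonoid N] (f : N →+ M) (hf : Function.Injective f) :
    Function.Injective (Algebra.TensorProduct.map
      (MonoidAlgebra.mapDomainBialgHom R (AddMonoidHom.toMultiplicative f)).toAlgHom (AlgHom.id R k)) := by
  let r : MonoidAlgebra R (Multiplicative M) →ₗ[R] MonoidAlgebra R (Multiplicative N) :=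
    { MonoidAlgebra.comapDomainAddMonoidHom (AddMonoidHom.toMultiplicative f : Multiplicative N → Multiplicative M) hf with
      map_smul' := fun c x => by ext; simp }
  have hr : r.comp (MonoidAlgebra.mapDomainBialgHom R (AddMonoidHom.toMultiplicative f)).toAlgHom.toLinearMap = LinearMap.id := by
    refine LinearMap.ext fun x => ?_
    induction x using MonoidAlgebra.induction_linear with
    | zero => simp
    | add x y hx hy => simp [map_add] at hx hy ⊢; simp [hx, hy]
    | single m c =>
      refine Eq.trans ?_ (MonoidAlgebra.comapDomain_single_map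
        (AddMonoidHom.toMultiplicative f : Multiplicative N → Multiplicative M) hf m c)
      simp only [r, LinearMap.comp_apply, LinearMap.coe_mk, AlgHom.toLinearMap_apply]
      exact congrArg (MonoidAlgebra.comapDomain _ hf) (MonoidAlgebra.mapDomain_single (R := R) ..)
  intro a b h
  have := congrArg (TensorProduct.map r (LinearMap.id (R := R) (M := k))) h
  have e : ∀ z, TensorProduct.map r (LinearMap.id (R := R) (M := k)) (Algebra.TensorProduct.map
      (MonoidAlgebra.mapDomainBialgHom R (AddMonoidHom.toMultiplicative f)).toAlgHom (AlgHom.id R k) z) = z := by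
    intro z
    induction z using TensorProduct.induction_on with
    | zero => simp
    | add x y hx hy => simp [hx, hy]
    | tmul x y =>
      rw [Algebra.TensorProduct.map_tmul, TensorProduct.map_tmul]
      exact congrArg (· ⊗ₜ[R] y) (LinearMap.congr_fun hr x)
  rwa [e, e] at this

/-- Scheme-theoretic dominance of a base change between affine schemes. -/
theorem isSchemeTheoreticallyDominant_pullbackMap (R k A B : Type u) [CommRing R] [CommRing k] [Algebra R k]
    [CommRing A] [Algebra R A] [CommRing B] [Algebra R B] (φ : A →ₐ[R] B)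
    (hinj : Function.Injective (Algebra.TensorProduct.map φ (AlgHom.id R k))) (h₁ h₂) :
    IsSchemeTheoreticallyDominant (pullback.map (Spec.map (CommRingCat.ofHom (algebraMap R B)))
      (Spec.map (CommRingCat.ofHom (algebraMap R k))) (Spec.map (CommRingCat.ofHom (algebraMap R A)))
      (Spec.map (CommRingCat.ofHom (algebraMap R k))) (Spec.map (CommRingCat.ofHom φ.toRingHom)) (𝟙 _) (𝟙 _) h₁ h₂) := by
  let g := Spec.map (CommRingCat.ofHom (R := A ⊗[R] k) (S := B ⊗[R] k)
    (Algebra.TensorProduct.map φ (AlgHom.id R k)).toRingHom)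
  haveI : IsSchemeTheoreticallyDominant g := isSchemeTheoreticallyDominant_specMap _ hinj
  have key : pullback.map (Spec.map (CommRingCat.ofHom (algebraMap R B)))
      (Spec.map (CommRingCat.ofHom (algebraMap R k))) (Spec.map (CommRingCat.ofHom (algebraMap R A)))
      (Spec.map (CommRingCat.ofHom (algebraMap R k))) (Spec.map (CommRingCat.ofHom φ.toRingHom)) (𝟙 _) (𝟙 _) h₁ h₂ =
      (pullbackSpecIso R B k).hom ≫ g ≫ (pullbackSpecIso R A k).inv := by
    rw [← Iso.inv_comp_eq]
    apply pullback.hom_ext
    · rw [Category.assoc, Category.assoc, pullbackSpecIso_inv_fst, pullback.map, pullback.lift_fst,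
        pullbackSpecIso_inv_fst_assoc, ← Spec.map_comp, ← Spec.map_comp, ← CommRingCat.ofHom_comp, ← CommRingCat.ofHom_comp]
      congr 2
    · rw [Category.assoc, Category.assoc, pullbackSpecIso_inv_snd, pullback.map, pullback.lift_snd, Category.comp_id,
        pullbackSpecIso_inv_snd, ← Spec.map_comp, ← CommRingCat.ofHom_comp]
      congr 2; ext x; simp
  rw [key]
  infer_instance

/-- The multiplicative group is schematically dense in the affine line over an affine base. -/
theorem isSchemeTheoreticallyDominant_map (k : Type u) [CommRing k] {M N : Type} [AddCommMonoid M] [AddCommMonoid N]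
    (f : N →+ M) (hf : Function.Injective f) :
    IsSchemeTheoreticallyDominant (Magnet.AMonS.map (Spec (CommRingCat.of k)) f).left := by
  letI : Algebra (ULift.{u} ℤ) k := ((Int.castRingHom k).comp (ULift.ringEquiv : ULift.{u} ℤ ≃+* ℤ).toRingHom).toAlgebra
  have hσ : Limits.IsTerminal.from specULiftZIsTerminal (Spec (CommRingCat.of k)) =
      Spec.map (CommRingCat.ofHom (algebraMap (ULift.{u} ℤ) k)) := specULiftZIsTerminal.hom_ext _ _
  have key : ∀ (σ : Spec (CommRingCat.of k) ⟶ Spec (CommRingCat.of (ULift.{u} ℤ)))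
      (_ : σ = Spec.map (CommRingCat.ofHom (algebraMap (ULift.{u} ℤ) k))),
      IsSchemeTheoreticallyDominant ((Over.pullback σ).map (Magnet.AMon.map (ULift.{u} ℤ) f)).left := by
    rintro σ rfl
    dsimp [Over.pullback_map_left, Over.pullback]
    refine Eq.mpr (congrArg _ ?_) (isSchemeTheoreticallyDominant_pullbackMap (ULift.{u} ℤ) k _ _
      (MonoidAlgebra.mapDomainBialgHom (ULift.{u} ℤ) (AddMonoidHom.toMultiplicative f)).toAlgHom
      (injective_map_mapDomain (ULift.{u} ℤ) k f hf) ?_ rfl)
    · apply pullback.hom_ext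
      · exact (pullback.lift_fst _ _ _).trans (pullback.lift_fst _ _ _).symm
      · exact (pullback.lift_snd _ _ _).trans ((pullback.lift_snd _ _ _).trans (Category.comp_id _)).symm
    · rw [Category.comp_id, ← Spec.map_comp, ← CommRingCat.ofHom_comp]
      congr 2
      ext x
      simp
  exact key _ hσ

/-- The same after adding a factor, over a field. -/
theorem isSchemeTheoreticallyDominant_incl (k : Type u) [Field k] (T : Over (Spec (CommRingCat.of k))) :
    IsSchemeTheoreticallyDominant (HMNum.incl (Spec (CommRingCat.of k)) ▷ T).left := by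
  let i := HMNum.incl (Spec (CommRingCat.of k))
  haveI : IsSchemeTheoreticallyDominant i.left :=
    isSchemeTheoreticallyDominant_map k HMNum.plus.subtype Subtype.val_injective
  haveI : IsAffineHom (HMNum.A1 (Spec (CommRingCat.of k))).hom :=
    MorphismProperty.pullback_snd _ _ (inferInstanceAs (IsAffineHom (Spec.map _)))
  haveI : IsAffineHom (Red.Gm (Spec (CommRingCat.of k))).hom :=
    MorphismProperty.pullback_snd _ _ (inferInstanceAs (IsAffineHom (Spec.map _)))
  haveI : QuasiCompact i.left := by
    haveI : IsAffineHom (i.left ≫ (HMNum.A1 (Spec (CommRingCat.of k))).hom) := by rw [Over.w i]; infer_instance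
    haveI : IsAffineHom i.left := MorphismProperty.of_postcomp (W' := @IsSeparated) _ i.left _ inferInstance ‹IsAffineHom (i.left ≫ _)›
    infer_instance
  haveI : Flat T.hom := inferInstance
  haveI : Flat (CartesianMonoidalCategory.fst (HMNum.A1 (Spec (CommRingCat.of k))) T).left := by
    show Flat (pullback.fst _ _); infer_instance
  have sq : IsPullback (i ▷ T).left (CartesianMonoidalCategory.fst (Red.Gm _) T).left
      (CartesianMonoidalCategory.fst (HMNum.A1 _) T).left i.left := by
    refine IsPullback.of_right (h₁₂ := (CartesianMonoidalCategory.snd (HMNum.A1 _) T).left) (v₁₃ := T.hom)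
      (h₂₂ := (HMNum.A1 _).hom) ?_ ?_ (IsPullback.of_hasPullback (HMNum.A1 _).hom T.hom).flip
    · rw [← Over.comp_left, whiskerRight_snd, Over.w i]
      exact (IsPullback.of_hasPullback (Red.Gm _).hom T.hom).flip
    · rw [← Over.comp_left, ← Over.comp_left, whiskerRight_fst]
  exact IsSchemeTheoreticallyDominant.of_isPullback sq.flip

section

variable {k : Type u} [Field k] {G X : Over (Spec (CommRingCat.of k))} [GrpObj G] [IsSeparated X.hom]
  {a : AlgGrp.Action G X} {l : Red.Gm (Spec (CommRingCat.of k)) ⟶ G} [IsMonHom l] {T : Over (Spec (CommRingCat.of k))}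

omit [GrpObj G] in
/-- Morphisms out of `A¹ × T` agreeing on `Gm × T` agree. -/
theorem ext_incl {f g : HMNum.A1 (Spec (CommRingCat.of k)) ⊗ T ⟶ X}
    (h : (HMNum.incl _ ▷ T) ≫ f = (HMNum.incl _ ▷ T) ≫ g) : f = g := by
  haveI := isSchemeTheoreticallyDominant_incl k T
  exact ext_of_isSchemeTheoreticallyDominant _ h

omit [IsSeparated X.hom] in
/-- A point of the attractor is the orbit map on the multiplicative group. -/
theorem incl_whisker_comp (φ : (HMNum.attrPlus a l).obj (op T)) :
    (HMNum.incl _ ▷ T) ≫ φ.1 =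
      lift (fst _ _ ≫ l) (snd _ _ ≫ ((Magnet.attrToX (HMNum.gmAct a l) HMNum.plus).app (op T) φ : T ⟶ X)) ≫ a.act := by
  have h := (Magnet.MonAct.mem_eqvHom_iff φ.1).mp φ.2 (Red.Gm _ ⊗ T) (fst _ _) (1 : _ ⟶ HMNum.A1 _) (snd _ _)
  rw [Magnet.MonAct.lift_restrict_act, Magnet.MonAct.ofAction_act] at h
  unfold Magnet.subAct at h
  rw [Magnet.MonAct.lift_restrict_act,
    Magnet.MonAct.lift_regular_act, _root_.mul_one] at h
  have e1 : (HMNum.incl _ ▷ T) = CartesianMonoidalCategory.lift (fst _ _ ≫ HMNum.incl _) (snd (Red.Gm (Spec (CommRingCat.of k))) T) :=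
    CartesianMonoidalCategory.hom_ext _ _ (by simp) (by simp)
  have e2 : (CartesianMonoidalCategory.lift (1 : Red.Gm (Spec (CommRingCat.of k)) ⊗ T ⟶ HMNum.A1 _) (snd _ T) ≫ φ.1) =
      snd _ T ≫ ((Magnet.attrToX (HMNum.gmAct a l) HMNum.plus).app (op T) φ : T ⟶ X) := by
    rw [Magnet.MonAct.eqvHom.evalAt_app]
    show _ = snd _ _ ≫ CartesianMonoidalCategory.lift _ _ ≫ φ.1
    rw [comp_lift_assoc, Category.comp_id, ← Category.assoc, comp_toUnit]
    rfl
  rw [e1, ← e2]
  exact h

/-- The limit is unique. -/
theorem isLimitPt_unique {x y y' : T ⟶ X} (h : HMNum.IsLimitPt a l x y) (h' : HMNum.IsLimitPt a l x y') : y = y' := by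
  obtain ⟨φ, h1, rfl⟩ := h
  obtain ⟨φ', h1', rfl⟩ := h'
  have e : φ = φ' := Subtype.ext (ext_incl (by rw [incl_whisker_comp φ, incl_whisker_comp φ', h1, h1']))
  rw [e]

omit [IsSeparated X.hom] in
/-- A fixed point is its own limit. -/
theorem isLimitPt_self {y : T ⟶ X} (h : HMNum.IsFixedBy a l y) : HMNum.IsLimitPt a l y y := by
  refine ⟨⟨snd _ _ ≫ y, ?_⟩, ?_, ?_⟩
  · rw [Magnet.MonAct.mem_eqvHom_iff]
    intro T' g b t
    rw [lift_snd_assoc, lift_snd_assoc, Magnet.MonAct.lift_restrict_act, Magnet.MonAct.ofAction_act]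
    exact (h T' t g).symm
  · show lift _ _ ≫ snd _ _ ≫ y = y
    rw [lift_snd_assoc, Category.id_comp]
  · rw [HMNum.limitPt_eq]
    show lift _ _ ≫ snd _ _ ≫ y = y
    rw [lift_snd_assoc, Category.id_comp]

omit [IsSeparated X.hom] in
/-- The weight forces the point to be fixed, so it is its own limit. -/
theorem isMu_iff_hasFibreWeight [IsSeparated X.hom] (B : GLinSh.LinBun G a) {x y : T ⟶ X} (h : HMNum.IsLimitPt a l x y)
    (m : ℤ) : HMNum.IsMu B l x m ↔ HMNum.HasFibreWeight B l y (-m) := by
  constructor
  · rintro ⟨y', h', hw⟩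
    rwa [isLimitPt_unique h h']
  · exact fun hw => ⟨y, h, hw⟩

omit [IsSeparated X.hom] in
/-- The points of the monoid scheme of the trivial monoid are all equal to `1`. -/
theorem subsingleton_points {T : Over (Spec (CommRingCat.of k))} (f g : T ⟶ Magnet.AMonS (Spec (CommRingCat.of k)) ↥(⊥ : AddSubmonoid ℤ)) : f = g := by
  let R : Type u := ULift.{u} ℤ
  have hbij : Function.Bijective (algebraMap R (MonoidAlgebra R (Multiplicative ↥(⊥ : AddSubmonoid ℤ)))) := by
    refine ⟨fun a b h => ?_, fun x => ?_⟩
    · simpa using congrArg (fun z => MonoidAlgebra.coeff z (1 : Multiplicative ↥(⊥ : AddSubmonoid ℤ))) h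
    · induction x using MonoidAlgebra.induction_linear with
      | zero => exact ⟨0, map_zero _⟩
      | add x y hx hy => obtain ⟨a, rfl⟩ := hx; obtain ⟨b, rfl⟩ := hy; exact ⟨a + b, map_add _ _ _⟩
      | single m c =>
        refine ⟨c, ?_⟩
        have : m = 1 := Multiplicative.toAdd.injective (Subtype.ext (AddSubmonoid.mem_bot.mp (Multiplicative.toAdd m).2))
        simp [this]
  haveI : IsIso (Spec.map (CommRingCat.ofHom (algebraMap R (MonoidAlgebra R (Multiplicative ↥(⊥ : AddSubmonoid ℤ)))))) := by
    haveI : IsIso (CommRingCat.ofHom (algebraMap R (MonoidAlgebra R (Multiplicative ↥(⊥ : AddSubmonoid ℤ))))) :=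
      (ConcreteCategory.isIso_iff_bijective _).mpr hbij
    infer_instance
  haveI : IsIso (Magnet.AMonS (Spec (CommRingCat.of k)) ↥(⊥ : AddSubmonoid ℤ)).hom :=
    MorphismProperty.pullback_snd (P := .isomorphisms Scheme) _ _ ‹_›
  ext1
  rw [← cancel_mono (Magnet.AMonS (Spec (CommRingCat.of k)) ↥(⊥ : AddSubmonoid ℤ)).hom, Over.w f, Over.w g]

omit [IsSeparated X.hom] in
/-- A limit point is fixed. -/
theorem isFixedBy_of_isLimitPt {x y : T ⟶ X} (h : HMNum.IsLimitPt a l x y) : HMNum.IsFixedBy a l y := by
  obtain ⟨φ, -, rfl⟩ := h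
  intro T' t g
  let ψ := (Magnet.attrFace (HMNum.gmAct a l) HMNum.isFace_bot).app (op T) φ
  have hψ := (Magnet.MonAct.mem_eqvHom_iff ψ.1).mp ψ.2 T' g 1 t
  rw [Magnet.MonAct.lift_restrict_act, Magnet.MonAct.ofAction_act] at hψ
  have e : t ≫ HMNum.limitPt φ = CartesianMonoidalCategory.lift (1 : T' ⟶ Magnet.AMonS _ ↥(⊥ : AddSubmonoid ℤ)) t ≫ ψ.1 := by
    show t ≫ CartesianMonoidalCategory.lift _ _ ≫ ψ.1 = _
    rw [comp_lift_assoc, Category.comp_id, ← Category.assoc, comp_toUnit]
    rfl
  rw [e, ← hψ]
  congr 2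
  exact subsingleton_points _ _

/-- The numerical function at a point and at its limit. -/
theorem isMu_iff_isMu_limit (B : GLinSh.LinBun G a) {x y : T ⟶ X} (h : HMNum.IsLimitPt a l x y) (m : ℤ) :
    HMNum.IsMu B l x m ↔ HMNum.IsMu B l y m :=
  (isMu_iff_hasFibreWeight B h m).trans (isMu_iff_hasFibreWeight B (isLimitPt_self (isFixedBy_of_isLimitPt h)) m).symm

end

end Groth.Agent.HMNum19
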