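import Groth.Prelude.Def_HMNum
import Groth.Agent.Lib.AlgGrpBasic19.Basic

/-!
# The numerical function under translation by a point of the group
-/

universe u

set_option backward.isDefEq.respectTransparency.types false

open CategoryTheory CategoryTheory.Limits MonoidalCategory CartesianMonoidalCategory MonObj AlgebraicGeometry Opposite

namespace Groth.Agent.HMNum19

variable {S : Scheme.{u}} {G X : Over S} [GrpObj G] {a : AlgGrp.Action G X}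

theorem appLE_congr {P Q : Scheme.{u}} {f g : P ⟶ Q} (h : f = g) {U : Q.Opens} {V : P.Opens}
    (e : V ≤ f ⁻¹ᵁ U) : f.appLE U V e = g.appLE U V (h ▸ e) := by subst h; rfl

/-- Translation by a point of the group. -/
noncomputable def tr (a : AlgGrp.Action G X) (γ : 𝟙_ (Over S) ⟶ G) : X ⟶ X :=
  lift (toUnit X ≫ γ) (𝟙 X) ≫ a.act

theorem comp_tr {T : Over S} (x : T ⟶ X) (γ : 𝟙_ (Over S) ⟶ G) :
    x ≫ tr a γ = lift (toUnit T ≫ γ) x ≫ a.act := by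
  rw [tr, ← Category.assoc, comp_lift, Category.comp_id, ← Category.assoc, comp_toUnit]

theorem tr_tr {T : Over S} (x : T ⟶ X) (γ : 𝟙_ (Over S) ⟶ G) : (x ≫ tr a γ) ≫ tr a γ⁻¹ = x := by
  rw [comp_tr, comp_tr, ← AlgGrpBasic19.act_mul, GrpObj.comp_inv, inv_mul_cancel, AlgGrpBasic19.act_one]

section

variable (γ : 𝟙_ (Over S) ⟶ G) (l l₂ : Red.Gm S ⟶ G) [IsMonHom l] [IsMonHom l₂]
  (hl : l₂ = (toUnit _ ≫ γ) * l * (toUnit _ ≫ γ)⁻¹)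

include hl

omit [IsMonHom l] [IsMonHom l₂] in
theorem act_conj {V : Over S} (b : AlgGrp.Action G V) {T : Over S} (g : T ⟶ Red.Gm S) (v : T ⟶ V) :
    lift (g ≫ l₂) (lift (toUnit T ≫ γ) v ≫ b.act) ≫ b.act =
      lift (toUnit T ≫ γ) (lift (g ≫ l) v ≫ b.act) ≫ b.act := by
  rw [← AlgGrpBasic19.act_mul, ← AlgGrpBasic19.act_mul, hl, comp_mul, comp_mul, GrpObj.comp_inv,
    ← Category.assoc, comp_toUnit, inv_mul_cancel_right]

theorem isEquivariant_tr : Magnet.MonAct.IsEquivariant (HMNum.gmAct a l) (HMNum.gmAct a l₂) (tr a γ) := by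
  rw [Magnet.MonAct.isEquivariant_iff]
  intro T g x
  rw [← Category.assoc, Magnet.MonAct.lift_restrict_act, Magnet.MonAct.lift_restrict_act,
    Magnet.MonAct.ofAction_act, comp_tr, comp_tr, act_conj γ l l₂ hl]

theorem isLimitPt {T : Over S} {x y : T ⟶ X} (h : HMNum.IsLimitPt a l x y) :
    HMNum.IsLimitPt a l₂ (x ≫ tr a γ) (y ≫ tr a γ) := by
  obtain ⟨φ, h1, h2⟩ := h
  refine ⟨⟨φ.1 ≫ tr a γ, φ.2.comp (isEquivariant_tr γ l l₂ hl)⟩, ?_, ?_⟩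
  · rw [← h1]
    exact (Category.assoc (lift (toUnit T ≫ η[Magnet.AMonS S ↥HMNum.plus]) (𝟙 T)) φ.1 (tr a γ)).symm
  · rw [← h2, HMNum.limitPt_eq, HMNum.limitPt_eq]; exact (Category.assoc _ _ _).symm

omit [IsMonHom l] [IsMonHom l₂] in
theorem isFixedBy {T : Over S} {x : T ⟶ X} (h : HMNum.IsFixedBy a l x) :
    HMNum.IsFixedBy a l₂ (x ≫ tr a γ) := by
  intro T' t g
  rw [← Category.assoc, comp_tr, act_conj γ l l₂ hl, h T' t g]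

end

/-- The fibrewise linearity of a lifted action, evaluated at points. -/
theorem exists_eval_act {V : Over S} {π : V ⟶ X} {Φ : AlgGrp.Action G V}
    {chart : ∀ U : X.left.Opens, Set (Γ(V.left, π.left ⁻¹ᵁ U))} {hπ : Φ.act ≫ π = (G ◁ π) ≫ a.act}
    (hlin : GLinSh.IsLinearLift a π Φ chart hπ) {U U' : X.left.Opens}
    {y : Γ(V.left, π.left ⁻¹ᵁ U)} {y' : Γ(V.left, π.left ⁻¹ᵁ U')} (hy : y ∈ chart U) (hy' : y' ∈ chart U')
    {T : Over S} (δ : T ⟶ G) (p : T ⟶ X) (hU : p.left ⁻¹ᵁ U = ⊤)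
    (hU' : (lift δ p ≫ a.act).left ⁻¹ᵁ U' = ⊤) :
    ∃ c : Γ(T.left, ⊤), ∀ (v : T ⟶ V) (_ : v ≫ π = p) (h₁ : ⊤ ≤ v.left ⁻¹ᵁ (π.left ⁻¹ᵁ U))
      (h₂ : ⊤ ≤ (lift δ v ≫ Φ.act).left ⁻¹ᵁ (π.left ⁻¹ᵁ U')),
      HMNum.evalFn π y' (lift δ v ≫ Φ.act) h₂ = c * HMNum.evalFn π y v h₁ := by
  obtain ⟨c, hc⟩ := hlin U U' y y' hy hy'
  have hb : ⊤ ≤ (lift δ p).left ⁻¹ᵁ (a.act.left ⁻¹ᵁ U' ⊓ (snd G X).left ⁻¹ᵁ U) := by
    intro z _
    refine ⟨?_, ?_⟩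
    · show (lift δ p ≫ a.act).left z ∈ U'
      exact hU'.ge (trivial : z ∈ (⊤ : T.left.Opens))
    · show (lift δ p ≫ snd G X).left z ∈ U
      rw [lift_snd]; exact hU.ge (trivial : z ∈ (⊤ : T.left.Opens))
  refine ⟨(lift δ p).left.appLE _ ⊤ hb c, fun v hv h₁ h₂ => ?_⟩
  have hw : lift δ v ≫ (G ◁ π) = lift δ p := by rw [lift_whiskerLeft, hv]
  have hL : ⊤ ≤ (lift δ v).left ⁻¹ᵁ GLinSh.liftOpen a π U U' := by
    intro z hz
    have := hb hz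
    rw [← hw] at this
    exact this
  have e := congrArg ((lift δ v).left.appLE (GLinSh.liftOpen a π U U') ⊤ hL) hc
  rw [map_mul, ← CommRingCat.comp_apply, ← CommRingCat.comp_apply, ← CommRingCat.comp_apply,
    Scheme.Hom.appLE_comp_appLE, Scheme.Hom.appLE_comp_appLE, Scheme.Hom.appLE_comp_appLE] at e
  refine e.trans ?_
  congr 1
  · rw [appLE_congr ((show (lift δ v).left ≫ (G ◁ π).left = (lift δ p).left from congrArg (fun q : T ⟶ G ⊗ X => q.left) hw))]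
  · rw [appLE_congr ((show (lift δ v).left ≫ (snd G V).left = v.left from congrArg (fun q : T ⟶ V => q.left) (lift_snd δ v)))]
    rfl

/-- The weight on the fibre is unchanged by translation. -/
theorem hasFibreWeight (B : GLinSh.LinBun G a) (γ : 𝟙_ (Over S) ⟶ G) (l l₂ : Red.Gm S ⟶ G)
    (hl : l₂ = (toUnit _ ≫ γ) * l * (toUnit _ ≫ γ)⁻¹) {T : Over S} [Subsingleton ↥T.left] [Nonempty ↥T.left]
    {x₀ : T ⟶ X} {w : ℤ} (h : HMNum.HasFibreWeight B l x₀ w) :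
    HMNum.HasFibreWeight B l₂ (x₀ ≫ tr a γ) w := by
  obtain ⟨hfix, U, y, hy, hU, hval⟩ := h
  obtain ⟨p⟩ := ‹Nonempty ↥T.left›
  obtain ⟨U₂, hU₂, y₂, hy₂⟩ := B.atlas.cover ((x₀ ≫ tr a γ).left p)
  have hU₂' : (x₀ ≫ tr a γ).left ⁻¹ᵁ U₂ = ⊤ := by
    refine eq_top_iff.mpr fun z _ => ?_
    show (x₀ ≫ tr a γ).left z ∈ U₂
    rw [Subsingleton.elim z p]; exact hU₂
  refine ⟨isFixedBy γ l l₂ hl hfix, U₂, y₂, hy₂, hU₂', fun T' t g v hv hgv => ?_⟩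
  let δ : T' ⟶ G := toUnit T' ≫ γ
  have hδ : lift δ (t ≫ x₀) ≫ a.act = t ≫ x₀ ≫ tr a γ := by rw [← Category.assoc, comp_tr]
  obtain ⟨c, hc⟩ := exists_eval_act B.lift_linear hy hy₂ δ (t ≫ x₀)
    (show t.left ⁻¹ᵁ (x₀.left ⁻¹ᵁ U) = ⊤ by rw [hU]; rfl)
    (by rw [hδ]; show t.left ⁻¹ᵁ ((x₀ ≫ tr a γ).left ⁻¹ᵁ U₂) = ⊤; rw [hU₂']; rfl)
  let v₀ : T' ⟶ B.V := lift δ⁻¹ v ≫ B.lift.act
  have hv₀ : lift δ v₀ ≫ B.lift.act = v := by
    rw [← AlgGrpBasic19.act_mul, mul_inv_cancel, AlgGrpBasic19.act_one]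
  have hπ : ∀ {T'' : Over S} (d : T'' ⟶ G) (u : T'' ⟶ B.V),
      (lift d u ≫ B.lift.act) ≫ B.π = lift d (u ≫ B.π) ≫ a.act := by
    intro T'' d u
    rw [Category.assoc, B.lift_π, lift_whiskerLeft_assoc]
  have h0 : v₀ ≫ B.π = t ≫ x₀ := by
    rw [hπ, hv, ← hδ, ← AlgGrpBasic19.act_mul, inv_mul_cancel, AlgGrpBasic19.act_one]
  have h1 : (lift (g ≫ l) v₀ ≫ B.lift.act) ≫ B.π = t ≫ x₀ := by
    rw [hπ, h0]; exact hfix T' t g
  have key : lift (g ≫ l₂) v ≫ B.lift.act = lift δ (lift (g ≫ l) v₀ ≫ B.lift.act) ≫ B.lift.act := by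
    conv_lhs => rw [← hv₀]
    exact act_conj γ l l₂ hl B.lift g v₀
  have congrEval : ∀ {v v' : T' ⟶ B.V} (e : v = v') (h : ⊤ ≤ v.left ⁻¹ᵁ (B.π.left ⁻¹ᵁ U₂)),
      HMNum.evalFn B.π y₂ v h = HMNum.evalFn B.π y₂ v' (e ▸ h) := by
    intro v v' e h; subst e; rfl
  rw [congrEval key, congrEval hv₀.symm, hc _ h1 (HMNum.top_le_preimage B.π hU h1), hval T' t g v₀ h0 h1,
    hc _ h0 (HMNum.top_le_preimage B.π hU h0)]
  ring

/-- The numerical function under translation. -/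
theorem isMu (B : GLinSh.LinBun G a) (γ : 𝟙_ (Over S) ⟶ G) (l l₂ : Red.Gm S ⟶ G) [IsMonHom l] [IsMonHom l₂]
    (hl : l₂ = (toUnit _ ≫ γ) * l * (toUnit _ ≫ γ)⁻¹) {T : Over S} [Subsingleton ↥T.left] [Nonempty ↥T.left]
    {x : T ⟶ X} {m : ℤ} (h : HMNum.IsMu B l x m) : HMNum.IsMu B l₂ (x ≫ tr a γ) m := by
  obtain ⟨y, h1, h2⟩ := h
  exact ⟨_, isLimitPt γ l l₂ hl h1, hasFibreWeight B γ l l₂ hl h2⟩

end Groth.Agent.HMNum19
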