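import Groth.Agent.Lib.HMNum19.Translate
import Groth.Agent.Lib.HMNum19.Unique

/-!
# Invariance of the numerical function under the parabolic subgroup
-/

universe u

set_option backward.isDefEq.respectTransparency.types false

open CategoryTheory CategoryTheory.Limits MonoidalCategory CartesianMonoidalCategory MonObj AlgebraicGeometry Opposite

namespace Groth.Agent.HMNum19

variable {k : Type u} [Field k]

local notation "S₀" => Spec (CommRingCat.of k)

/-- Two morphisms out of `A¹ × T`, given on points, agree when they agree at the points of `Gm`. -/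
theorem ext_points {Z : Over (Spec (CommRingCat.of k))} [IsSeparated Z.hom] {T T' : Over (Spec (CommRingCat.of k))}
    (F₁ F₂ : HMNum.A1 S₀ ⊗ T ⟶ Z) (h : ∀ (T'' : Over (Spec (CommRingCat.of k))) (u : T'' ⟶ Red.Gm S₀) (t : T'' ⟶ T),
      lift (u ≫ HMNum.incl S₀) t ≫ F₁ = lift (u ≫ HMNum.incl S₀) t ≫ F₂)
    (b : T' ⟶ HMNum.A1 S₀) (t : T' ⟶ T) : lift b t ≫ F₁ = lift b t ≫ F₂ := by
  have e : F₁ = F₂ := by
    apply ext_incl
    have e1 : (HMNum.incl S₀ ▷ T) = lift (fst _ _ ≫ HMNum.incl S₀) (snd (Red.Gm S₀) T) :=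
      CartesianMonoidalCategory.hom_ext _ _ (by simp) (by simp)
    rw [e1]
    exact h _ _ _
  rw [e]

variable {G X : Over (Spec (CommRingCat.of k))} [GrpObj G] {l : Red.Gm (Spec (CommRingCat.of k)) ⟶ G} [IsMonHom l]

/-- The action of `Gm` on the affine line fixes the origin. -/
theorem incl_mul_origin {T : Over (Spec (CommRingCat.of k))} (g : T ⟶ Red.Gm S₀) :
    (g ≫ HMNum.incl S₀) * (toUnit T ≫ HMNum.origin S₀) = toUnit T ≫ HMNum.origin S₀ := by
  have h := Magnet.isEquivariant_faceMapS S₀ HMNum.isFace_bot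
  rw [Magnet.MonAct.isEquivariant_iff] at h
  have h' := h T g (toUnit T ≫ η[Magnet.AMonS S₀ ↥(⊥ : AddSubmonoid ℤ)])
  unfold Magnet.subAct at h'
  rw [Magnet.MonAct.lift_restrict_act_assoc, Magnet.MonAct.lift_regular_act_assoc, Magnet.MonAct.lift_restrict_act,
    Magnet.MonAct.lift_regular_act] at h'
  show _ * (toUnit T ≫ η[Magnet.AMonS S₀ ↥(⊥ : AddSubmonoid ℤ)] ≫ Magnet.AMonS.faceMap S₀ HMNum.isFace_bot) = _
  rw [← Category.assoc, ← h', subsingleton_points (k := k) (_ * (toUnit T ≫ η[Magnet.AMonS S₀ ↥(⊥ : AddSubmonoid ℤ)]))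
    (toUnit T ≫ η[Magnet.AMonS S₀ ↥(⊥ : AddSubmonoid ℤ)]), Category.assoc]
  rfl

variable {γ : 𝟙_ (Over (Spec (CommRingCat.of k))) ⟶ G} {f : HMNum.A1 (Spec (CommRingCat.of k)) ⟶ G}
  (hf : HMNum.incl (Spec (CommRingCat.of k)) ≫ f = l * (toUnit _ ≫ γ) * l⁻¹)

include hf

omit [IsMonHom l] in
theorem comp_extension {T : Over (Spec (CommRingCat.of k))} (v : T ⟶ Red.Gm S₀) :
    (v ≫ HMNum.incl S₀) ≫ f = (v ≫ l) * (toUnit T ≫ γ) * (v ≫ l)⁻¹ := by
  rw [Category.assoc, hf, comp_mul, comp_mul, GrpObj.comp_inv, ← Category.assoc, comp_toUnit]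

/-- The extension is equivariant for conjugation. -/
theorem extension_mul [IsSeparated G.hom] {T : Over (Spec (CommRingCat.of k))} (g : T ⟶ Red.Gm S₀) (b : T ⟶ HMNum.A1 S₀) :
    ((g ≫ HMNum.incl S₀) * b) ≫ f = (g ≫ l) * (b ≫ f) * (g ≫ l)⁻¹ := by
  have key := ext_points (T := Red.Gm S₀) (((snd _ _ ≫ HMNum.incl S₀) * fst _ _) ≫ f)
    ((snd _ _ ≫ l) * (fst _ _ ≫ f) * (snd _ _ ≫ l)⁻¹) (fun T'' u t => ?_) b g
  · simpa only [comp_mul, GrpObj.comp_inv, lift_fst_assoc, lift_snd_assoc, MonObj.comp_mul_assoc, lift_fst, lift_snd,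
      ← Category.assoc] using key
  · simp only [comp_mul, GrpObj.comp_inv, lift_fst_assoc, lift_snd_assoc, MonObj.comp_mul_assoc, lift_fst, lift_snd,
      ← Category.assoc]
    rw [show (t ≫ HMNum.incl S₀) * (u ≫ HMNum.incl S₀) = (t * u) ≫ HMNum.incl S₀ from (MonObj.mul_comp t u _).symm,
      comp_extension hf, comp_extension hf, MonObj.mul_comp]
    simp only [_root_.mul_inv_rev, _root_.mul_assoc]

/-- The limit `γ₀` of the conjugates commutes with the one-parameter subgroup. -/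
theorem origin_comm [IsSeparated G.hom] :
    (toUnit (Red.Gm S₀) ≫ HMNum.origin S₀ ≫ f) * l * (toUnit (Red.Gm S₀) ≫ HMNum.origin S₀ ≫ f)⁻¹ = l := by
  have h := extension_mul hf (𝟙 (Red.Gm S₀)) (toUnit _ ≫ HMNum.origin S₀)
  rw [incl_mul_origin, Category.id_comp, Category.assoc] at h
  calc _ = (l * (toUnit (Red.Gm S₀) ≫ HMNum.origin S₀ ≫ f) * l⁻¹) * l * (toUnit (Red.Gm S₀) ≫ HMNum.origin S₀ ≫ f)⁻¹ := by
        rw [← h]
    _ = l := by group

variable {a : AlgGrp.Action G X}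

/-- The limit at a translated point is the translate of the limit. -/
theorem isLimitPt_parabolic [IsSeparated G.hom] {T : Over (Spec (CommRingCat.of k))} {x y : T ⟶ X}
    (h : HMNum.IsLimitPt a l x y) : HMNum.IsLimitPt a l (x ≫ tr a γ) (y ≫ tr a (HMNum.origin S₀ ≫ f)) := by
  obtain ⟨φ, h1, h2⟩ := h
  refine ⟨⟨lift (fst _ _ ≫ f) φ.1 ≫ a.act, ?_⟩, ?_, ?_⟩
  · rw [Magnet.MonAct.mem_eqvHom_iff]
    intro T' g b t
    have hφ := (Magnet.MonAct.mem_eqvHom_iff φ.1).mp φ.2 T' g b t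
    unfold Magnet.subAct at hφ ⊢
    rw [Magnet.MonAct.lift_restrict_act, Magnet.MonAct.lift_regular_act, Magnet.MonAct.lift_restrict_act,
      Magnet.MonAct.ofAction_act] at hφ ⊢
    rw [comp_lift_assoc, lift_fst_assoc, comp_lift_assoc, lift_fst_assoc, hφ, ← AlgGrpBasic19.act_mul,
      ← AlgGrpBasic19.act_mul, extension_mul hf, inv_mul_cancel_right]
  · have h1' : lift (toUnit T ≫ η[HMNum.A1 S₀]) (𝟙 T) ≫ φ.1 = x := h1
    show lift _ _ ≫ lift (fst _ _ ≫ f) φ.1 ≫ a.act = _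
    rw [comp_lift_assoc, lift_fst_assoc, h1', comp_tr]
    congr 2
    have e : (η[HMNum.A1 S₀]) ≫ f = γ := by
      have h0 := comp_extension hf (1 : 𝟙_ (Over (Spec (CommRingCat.of k))) ⟶ Red.Gm S₀)
      rw [MonObj.one_comp (HMNum.incl S₀), MonObj.one_comp l, inv_one, _root_.mul_one, _root_.one_mul, Hom.one_def,
        Subsingleton.elim (toUnit (𝟙_ (Over (Spec (CommRingCat.of k))))) (𝟙 _), Category.id_comp, Category.id_comp] at h0
      exact h0
    rw [Category.assoc, e]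
  · rw [HMNum.limitPt_eq] at h2 ⊢
    show lift _ _ ≫ lift (fst _ _ ≫ f) φ.1 ≫ a.act = _
    rw [comp_lift_assoc, lift_fst_assoc, h2, comp_tr, Category.assoc]

/-- The numerical function under translation by a point of the parabolic subgroup. -/
theorem isMu_parabolic [IsSeparated G.hom] (B : GLinSh.LinBun G a) {T : Over (Spec (CommRingCat.of k))}
    [Subsingleton ↥T.left] [Nonempty ↥T.left] {x : T ⟶ X} {m : ℤ} (h : HMNum.IsMu B l x m) :
    HMNum.IsMu B l (x ≫ tr a γ) m := by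
  obtain ⟨y, h1, h2⟩ := h
  exact ⟨_, isLimitPt_parabolic hf h1, hasFibreWeight B _ l l (origin_comm hf).symm h2⟩

end Groth.Agent.HMNum19
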